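import Mathlib.Algebra.Polynomial.Degree.Operations
import Mathlib.Algebra.Polynomial.Degree.Lemmas
import Mathlib.GroupTheory.Index
import Mathlib.Tactic.NoncommRing
import Mathlib.Tactic.ComputeDegree

/-!
The limit of a subgroup of a ring under conjugation by `1 + t y`, `y * y = 0`: the space of leading
coefficients.
-/

set_option autoImplicit false

open Polynomial

namespace CfsgLib.QuadLimit

variable {E : Type*} [Ring E] (y : E)

/-- Conjugation by `1 + X y` on polynomials. -/
noncomputable def conjPoly : E[X] →+ E[X] where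
  toFun f := (1 + X * C y) * f * (1 - X * C y)
  map_zero' := by rw [mul_zero, zero_mul]
  map_add' f g := by rw [mul_add, add_mul]

theorem conjPoly_apply (f : E[X]) : conjPoly y f = (1 + X * C y) * f * (1 - X * C y) := rfl

variable {y}

theorem one_sub_mul_one_add (hy : y * y = 0) :
    (1 - X * C y : E[X]) * (1 + X * C y) = 1 := by
  have h : (X * C y : E[X]) * (X * C y) = 0 := by
    rw [← mul_assoc, mul_assoc X (C y) X, ← X_mul_C, ← mul_assoc X X, mul_assoc (X * X), ← C_mul,
      hy, C_0, mul_zero]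
  calc (1 - X * C y : E[X]) * (1 + X * C y) = 1 - (X * C y) * (X * C y) := by noncomm_ring
    _ = 1 := by rw [h, sub_zero]

theorem conjPoly_mul (hy : y * y = 0) (f g : E[X]) :
    conjPoly y (f * g) = conjPoly y f * conjPoly y g := by
  simp only [conjPoly_apply]
  rw [show (1 + X * C y) * f * (1 - X * C y) * ((1 + X * C y) * g * (1 - X * C y)) =
      (1 + X * C y) * f * ((1 - X * C y) * (1 + X * C y)) * g * (1 - X * C y) by noncomm_ring,
    one_sub_mul_one_add hy]
  noncomm_ring

theorem conjPoly_neg_conjPoly (hy : y * y = 0) (f : E[X]) :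
    conjPoly y (conjPoly (-y) f) = f := by
  have hneg : (-y) * (-y) = 0 := by rw [neg_mul_neg, hy]
  have h1 : (1 + X * C y : E[X]) = 1 - X * C (-y) := by rw [C_neg, mul_neg, sub_neg_eq_add]
  have h2 : (1 - X * C y : E[X]) = 1 + X * C (-y) := by rw [C_neg, mul_neg, sub_eq_add_neg]
  simp only [conjPoly_apply]
  rw [h1, h2]
  calc (1 - X * C (-y)) * ((1 + X * C (-y)) * f * (1 - X * C (-y))) * (1 + X * C (-y))
      = (1 - X * C (-y)) * (1 + X * C (-y)) * f * ((1 - X * C (-y)) * (1 + X * C (-y))) := by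
        noncomm_ring
    _ = f := by rw [one_sub_mul_one_add hneg, one_mul, mul_one]

theorem conjPoly_C (x : E) :
    conjPoly y (C x) = C x + X * C (y * x - x * y) + X ^ 2 * C (-(y * x * y)) := by
  rw [conjPoly_apply, C_sub, C_neg, C_mul, C_mul, C_mul, C_mul]
  calc (1 + X * C y) * C x * (1 - X * C y)
      = C x + X * C y * C x - C x * X * C y - X * C y * C x * X * C y := by noncomm_ring
    _ = C x + X * C y * C x - X * C x * C y - X * (C y * C x * X) * C y := by
        rw [← X_mul_C x]; noncomm_ring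
    _ = _ := by
        rw [show C y * C x * X = X * (C y * C x) by rw [← C_mul, X_mul_C]]
        noncomm_ring

theorem conjPoly_X_pow_mul (n : ℕ) (f : E[X]) :
    conjPoly y (X ^ n * f) = X ^ n * conjPoly y f := by
  simp only [conjPoly_apply]
  rw [← mul_assoc (1 + X * C y), ← (commute_X_pow (1 + X * C y) n).eq]
  noncomm_ring

/-- Polynomials with coefficients in `S`. -/
def polyOn (S : AddSubgroup E) : AddSubgroup E[X] where
  carrier := {f | ∀ i, f.coeff i ∈ S}
  zero_mem' i := by rw [coeff_zero]; exact S.zero_mem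
  add_mem' {f g} hf hg i := by rw [coeff_add]; exact S.add_mem (hf i) (hg i)
  neg_mem' {f} hf i := by rw [coeff_neg]; exact S.neg_mem (hf i)

theorem C_mem_polyOn {S : AddSubgroup E} {x : E} (hx : x ∈ S) : C x ∈ polyOn S := by
  intro i
  rw [coeff_C]
  split_ifs
  exacts [hx, S.zero_mem]

theorem X_pow_mul_mem_polyOn {S : AddSubgroup E} {f : E[X]} (hf : f ∈ polyOn S) (n : ℕ) :
    X ^ n * f ∈ polyOn S := by
  intro i
  rw [coeff_X_pow_mul']
  split_ifs
  exacts [hf _, S.zero_mem]

variable (y)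

/-- The leading coefficients of the conjugated polynomials on `S`. -/
noncomputable def lead (S : AddSubgroup E) : AddSubgroup E where
  carrier := {x | ∃ f ∈ polyOn S, ∃ n : ℕ, (conjPoly y f).natDegree ≤ n ∧ (conjPoly y f).coeff n = x}
  zero_mem' := ⟨0, zero_mem _, 0, by simp, by simp⟩
  add_mem' := by
    rintro _ _ ⟨f, hf, n, hn, rfl⟩ ⟨g, hg, m, hm, rfl⟩
    refine ⟨X ^ m * f + X ^ n * g, add_mem (X_pow_mul_mem_polyOn hf m) (X_pow_mul_mem_polyOn hg n),
      n + m, ?_, ?_⟩
    · rw [map_add, conjPoly_X_pow_mul, conjPoly_X_pow_mul]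
      refine natDegree_add_le_of_degree_le ?_ ?_
      · exact natDegree_mul_le.trans (by have := natDegree_X_pow_le (R := E) m; omega)
      · exact natDegree_mul_le.trans (by have := natDegree_X_pow_le (R := E) n; omega)
    · rw [map_add, conjPoly_X_pow_mul, conjPoly_X_pow_mul, coeff_add, coeff_X_pow_mul,
        show n + m = m + n from add_comm n m, coeff_X_pow_mul]
  neg_mem' := by
    rintro _ ⟨f, hf, n, hn, rfl⟩
    exact ⟨-f, neg_mem hf, n, by rw [map_neg, natDegree_neg]; exact hn,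
      by rw [map_neg, coeff_neg]⟩

variable {y}

theorem lead_mono {S T : AddSubgroup E} (h : S ≤ T) : lead y S ≤ lead y T := by
  rintro x ⟨f, hf, n, hn, rfl⟩
  exact ⟨f, fun i => h (hf i), n, hn, rfl⟩

theorem mul_eq_zero_of_mem_lead (hy : y * y = 0) {S T : AddSubgroup E}
    (h : ∀ s ∈ S, ∀ t ∈ T, s * t = 0) {u v : E} (hu : u ∈ lead y S) (hv : v ∈ lead y T) :
    u * v = 0 := by
  obtain ⟨f, hf, n, hn, rfl⟩ := hu
  obtain ⟨g, hg, m, hm, rfl⟩ := hv
  have hfg : f * g = 0 := by
    ext i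
    rw [coeff_mul, coeff_zero]
    exact Finset.sum_eq_zero fun x _ => h _ (hf _) _ (hg _)
  rw [← coeff_mul_add_eq_of_natDegree_le hn hm, ← conjPoly_mul hy, hfg, map_zero, coeff_zero]

/-- A subgroup containing the three coefficients contains the limit. -/
theorem lead_le {S M : AddSubgroup E} (h0 : S ≤ M) (h1 : ∀ x ∈ S, y * x - x * y ∈ M)
    (h2 : ∀ x ∈ S, y * x * y ∈ M) : lead y S ≤ M := by
  suffices h : ∀ f ∈ polyOn S, conjPoly y f ∈ polyOn M by
    rintro _ ⟨f, hf, n, -, rfl⟩
    exact h f hf n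
  intro f hf
  rw [as_sum_range f, map_sum]
  refine sum_mem fun i _ => ?_
  rw [← C_mul_X_pow_eq_monomial, ← X_pow_mul_C, conjPoly_X_pow_mul, conjPoly_C]
  refine X_pow_mul_mem_polyOn (add_mem (add_mem (C_mem_polyOn (h0 (hf i))) ?_) ?_) i
  · rw [← pow_one X]; exact X_pow_mul_mem_polyOn (C_mem_polyOn (h1 _ (hf i))) 1
  · exact X_pow_mul_mem_polyOn (C_mem_polyOn (neg_mem (h2 _ (hf i)))) 2

/-- An invariant subgroup is fixed by taking the limit. -/
theorem mem_polyOn_image_of_invariant (hy : y * y = 0) {S : AddSubgroup E} {x : E} (hx : x ∈ S)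
    (h1 : y * x - x * y ∈ S) (h2 : y * x * y ∈ S) :
    ∃ f ∈ polyOn S, conjPoly y f = C x := by
  refine ⟨conjPoly (-y) (C x), ?_, conjPoly_neg_conjPoly hy _⟩
  rw [conjPoly_C]
  refine add_mem (add_mem (C_mem_polyOn hx) ?_) (X_pow_mul_mem_polyOn (C_mem_polyOn ?_) 2)
  · rw [← pow_one X]
    refine X_pow_mul_mem_polyOn (C_mem_polyOn ?_) 1
    have e : -y * x - x * -y = -(y * x - x * y) := by noncomm_ring
    rw [e]; exact neg_mem h1
  · have e : -(-y * x * -y) = -(y * x * y) := by noncomm_ring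
    rw [e]; exact neg_mem h2

theorem le_lead_of_invariant (hy : y * y = 0) {S : AddSubgroup E}
    (h1 : ∀ x ∈ S, y * x - x * y ∈ S) (h2 : ∀ x ∈ S, y * x * y ∈ S) : S ≤ lead y S := by
  intro x hx
  obtain ⟨f, hf, he⟩ := mem_polyOn_image_of_invariant hy hx (h1 x hx) (h2 x hx)
  exact ⟨f, hf, 0, by rw [he, natDegree_C], by rw [he, coeff_C_zero]⟩

theorem top_mem_lead (hy : y * y = 0) {S : AddSubgroup E} {x : E} (hx : x ∈ S) :
    -(y * x * y) ∈ lead y S := by
  refine ⟨C x, C_mem_polyOn hx, 2, ?_, ?_⟩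
  · rw [conjPoly_C]
    compute_degree
  · rw [conjPoly_C]
    simp [coeff_X_mul, coeff_X_pow_mul', coeff_C]

theorem deriv_mem_lead (hy : y * y = 0) {S : AddSubgroup E} {x : E} (hx : x ∈ S)
    (h0 : y * x * y ∈ S) (h1 : y * (y * x * y) - y * x * y * y ∈ S)
    (h2 : y * (y * x * y) * y ∈ S) : y * x - x * y ∈ lead y S := by
  obtain ⟨f, hf, he⟩ := mem_polyOn_image_of_invariant hy h0 h1 h2
  refine ⟨C x + X ^ 2 * f, add_mem (C_mem_polyOn hx) (X_pow_mul_mem_polyOn hf 2), 1, ?_, ?_⟩
  · rw [map_add, conjPoly_X_pow_mul, he, conjPoly_C, C_neg, mul_neg, neg_add_cancel_right]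
    compute_degree
  · rw [map_add, conjPoly_X_pow_mul, he, conjPoly_C, C_neg, mul_neg, neg_add_cancel_right]
    simp [coeff_C]

/-- The limit has at least as many elements. -/
theorem card_le_card_lead (hy : y * y = 0) [Finite E] (S : AddSubgroup E) :
    Nat.card S ≤ Nat.card (lead y S) := by
  classical
  set ℓ := Nat.card (lead y S) with hℓ
  by_contra hlt
  push Not at hlt
  have hℓ0 : 0 < ℓ := Nat.card_pos
  -- the images of bounded degree
  let W : ℕ → AddSubgroup E[X] := fun M =>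
    { carrier := {g | (∃ f ∈ polyOn S, conjPoly y f = g) ∧ ∀ i, M ≤ i → g.coeff i = 0}
      zero_mem' := ⟨⟨0, zero_mem _, map_zero _⟩, fun i _ => coeff_zero i⟩
      add_mem' := fun {a b} ha hb => ⟨by
        obtain ⟨f, hf, rfl⟩ := ha.1
        obtain ⟨g, hg, rfl⟩ := hb.1
        exact ⟨f + g, add_mem hf hg, map_add _ _ _⟩,
        fun i hi => by rw [coeff_add, ha.2 i hi, hb.2 i hi, add_zero]⟩
      neg_mem' := fun {a} ha => ⟨by
        obtain ⟨f, hf, rfl⟩ := ha.1
        exact ⟨-f, neg_mem hf, map_neg _ _⟩,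
        fun i hi => by rw [coeff_neg, ha.2 i hi, neg_zero]⟩ }
  have hfin : ∀ M, Finite (W M) := fun M => by
    refine Finite.of_injective (fun g : W M => fun i : Fin M => (g : E[X]).coeff i) ?_
    intro g g' h
    apply Subtype.ext
    ext i
    rcases lt_or_ge i M with hi | hi
    · exact congrFun h ⟨i, hi⟩
    · rw [g.2.2 i hi, g'.2.2 i hi]
  have hupper : ∀ M, Nat.card (W M) ≤ ℓ ^ M := by
    intro M
    induction M with
    | zero =>
      have : Subsingleton (W 0) := ⟨fun g g' => Subtype.ext (Polynomial.ext fun i => by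
        rw [g.2.2 i (Nat.zero_le i), g'.2.2 i (Nat.zero_le i)])⟩
      rw [Nat.card_unique, pow_zero]
    | succ M ih =>
      haveI := hfin (M + 1)
      haveI := hfin M
      let φ : W (M + 1) →+ lead y S :=
        { toFun := fun g => ⟨(g : E[X]).coeff M, by
            obtain ⟨f, hf, he⟩ := g.2.1
            refine ⟨f, hf, M, ?_, by rw [he]⟩
            rw [he, natDegree_le_iff_coeff_eq_zero]
            exact fun i hi => g.2.2 i hi⟩
          map_zero' := Subtype.ext (coeff_zero M)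
          map_add' := fun a b => Subtype.ext (coeff_add _ _ M) }
      have hk : Nat.card φ.ker ≤ Nat.card (W M) := by
        refine Nat.card_le_card_of_injective (fun g : φ.ker => (⟨(g.1 : E[X]), g.1.2.1, fun i hi => ?_⟩ : W M)) ?_
        · rcases hi.eq_or_lt with rfl | hi
          · exact congrArg Subtype.val g.2
          · exact g.1.2.2 i hi
        · intro a b h
          simp only [Subtype.mk.injEq] at h
          exact Subtype.ext (Subtype.ext h)
      have h1 := AddSubgroup.card_mul_index φ.ker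
      rw [AddSubgroup.index_ker] at h1
      calc Nat.card (W (M + 1)) = Nat.card φ.ker * Nat.card φ.range := h1.symm
        _ ≤ ℓ ^ M * ℓ := Nat.mul_le_mul (hk.trans ih)
            (Nat.card_le_card_of_injective _ φ.range.subtype_injective)
        _ = ℓ ^ (M + 1) := (pow_succ _ _).symm
  -- many elements of bounded degree
  set K := ℓ ^ 3 + 1 with hK
  have hlower : Nat.card S ^ K ≤ Nat.card (W (K + 2)) := by
    haveI := hfin (K + 2)
    rw [show Nat.card S ^ K = Nat.card (Fin K → S) by simp [Nat.card_pi]]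
    let F : (Fin K → S) → E[X] := fun c => ∑ i : Fin K, X ^ (i : ℕ) * C ((c i : E))
    have hF : ∀ c, F c ∈ polyOn S := fun c =>
      sum_mem fun i _ => X_pow_mul_mem_polyOn (C_mem_polyOn (c i).2) i
    refine Nat.card_le_card_of_injective
      (fun c => (⟨conjPoly y (F c), ⟨F c, hF c, rfl⟩, fun j hj => ?_⟩ : W (K + 2))) ?_
    · simp only [F, map_sum, conjPoly_X_pow_mul, conjPoly_C, finset_sum_coeff]
      refine Finset.sum_eq_zero fun i _ => ?_
      have hi := i.2
      rw [coeff_X_pow_mul', if_pos (by omega)]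
      simp only [coeff_add, coeff_C, coeff_X_pow_mul', show ¬ (j - (i : ℕ) = 0) by omega, if_false]
      rw [show j - (i : ℕ) = (j - (i : ℕ) - 1) + 1 by omega, coeff_X_mul, coeff_C,
        if_neg (by omega), if_pos (by omega), if_neg (by omega), add_zero, add_zero]
    · intro c c' h
      have h1 : conjPoly y (F c) = conjPoly y (F c') := congrArg Subtype.val h
      have hneg : (-y) * (-y) = 0 := by rw [neg_mul_neg, hy]
      have h2 : F c = F c' := by
        have := congrArg (conjPoly (-y)) h1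
        rwa [← neg_neg y, neg_neg (-y), conjPoly_neg_conjPoly hneg, conjPoly_neg_conjPoly hneg] at this
      funext i
      apply Subtype.ext
      have := congrArg (fun f => f.coeff (i : ℕ)) h2
      simpa [F, finset_sum_coeff, coeff_X_pow_mul', coeff_C, Fin.val_inj, Finset.sum_ite,
        Fin.le_def] using this
  have h := (Nat.pow_le_pow_left (Nat.succ_le_of_lt hlt) K).trans (hlower.trans (hupper _))
  -- `(ℓ+1)^K > ℓ^(K+2)`
  have hb : ∀ k, ℓ ^ (k + 1) + (k + 1) * ℓ ^ k ≤ (ℓ + 1) ^ (k + 1) := by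
    intro k
    induction k with
    | zero => simp
    | succ k ih =>
      calc ℓ ^ (k + 1 + 1) + (k + 1 + 1) * ℓ ^ (k + 1)
          ≤ (ℓ ^ (k + 1) + (k + 1) * ℓ ^ k) * (ℓ + 1) := by
            rw [show (ℓ ^ (k + 1) + (k + 1) * ℓ ^ k) * (ℓ + 1) =
              (ℓ ^ (k + 1 + 1) + (k + 1 + 1) * ℓ ^ (k + 1)) + (k + 1) * ℓ ^ k by ring]
            exact Nat.le_add_right _ _
        _ ≤ (ℓ + 1) ^ (k + 1) * (ℓ + 1) := Nat.mul_le_mul_right _ ih
        _ = _ := (pow_succ _ _).symm
  have h3 := (hb (ℓ ^ 3)).trans h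
  have h4 : (ℓ ^ 3 + 1) * ℓ ^ (ℓ ^ 3) ≤ ℓ ^ (ℓ ^ 3 + 1 + 2) := (Nat.le_add_left _ _).trans h3
  rw [show ℓ ^ (ℓ ^ 3 + 1 + 2) = ℓ ^ 3 * ℓ ^ (ℓ ^ 3) by rw [← pow_add]; ring_nf] at h4
  have := Nat.le_of_mul_le_mul_right h4 (pow_pos hℓ0 _)
  omega

end CfsgLib.QuadLimit
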