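import Cfsg.Agent.Lib.QuadLimit.Lead
import Mathlib.GroupTheory.Commutator.Basic
import Mathlib.Algebra.Group.Subgroup.Finite
import Mathlib.GroupTheory.Sylow
import Mathlib.Tactic.Group
import Mathlib.Tactic.Module

/-!
Replacing a quadratic subgroup by its limit under conjugation by a quadratic element.
-/

set_option autoImplicit false

open scoped commutatorElement

namespace CfsgLib.QuadLimit

variable {E : Type*} [Ring E]

theorem triple_product {a b c : E} (ha : a * a = 0) (hb : b * b = 0) (hc : c * c = 0)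
    (hab : a * b * a = 0) (hba : b * a * b = 0) (hac : a * c * a = 0) (hca : c * a * c = 0)
    (hbc : b * c * b = 0) (hcb : c * b * c = 0) (hx : (a + b + c) * (a + b + c) = 0)
    (hw : (a * b - b * a + (a * c - c * a) + (b * c - c * b)) *
      (a * b - b * a + (a * c - c * a) + (b * c - c * b)) = 0)
    (r : E) (hr : 2 * r + 1 = 0) (hrc : ∀ e, r * e = e * r) :
    (1 + a) * (1 + b) * (1 + c) *
      (1 + r * (a * b - b * a + (a * c - c * a) + (b * c - c * b))) = 1 + (a + b + c) := by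
  have hS : a * b + b * a + (a * c + c * a) + (b * c + c * b) = 0 := by
    rw [← hx]
    calc _ = a * b + b * a + (a * c + c * a) + (b * c + c * b) + (a * a + b * b + c * c) := by
          rw [ha, hb, hc]; simp
      _ = _ := by noncomm_ring
  set q := a * b + a * c + b * c with hq
  have hwq : a * b - b * a + (a * c - c * a) + (b * c - c * b) = 2 * q := by
    calc _ = 2 * q - (a * b + b * a + (a * c + c * a) + (b * c + c * b)) := by
          rw [hq]; noncomm_ring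
      _ = 2 * q := by rw [hS, sub_zero]
  rw [hwq] at hw ⊢
  have h2 : ∀ e : E, (2 * r) * e = -e := fun e => by
    rw [eq_neg_of_add_eq_zero_left hr, neg_one_mul]
  have hqq : q * q = 0 := by
    have h : (2 * r) * ((2 * r) * (q * q)) = q * q := by rw [h2, h2, neg_neg]
    rw [← h, show (2 * r) * ((2 * r) * (q * q)) = r * r * (2 * q * (2 * q)) by
      simp only [two_mul, mul_add, add_mul, mul_assoc], hw, mul_zero]
  have hr2 : r * (2 * q) = -q := by
    rw [← h2 q]; simp only [two_mul, mul_add, add_mul]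
  -- products of three
  have e1 : a * b * c + a * c * b = 0 := by
    have : a * (a * b + b * a + (a * c + c * a) + (b * c + c * b)) = 0 := by rw [hS, mul_zero]
    calc a * b * c + a * c * b
        = a * (a * b + b * a + (a * c + c * a) + (b * c + c * b))
          - (a * a) * b - a * b * a - (a * a) * c - a * c * a := by noncomm_ring
      _ = 0 := by rw [this, ha, hab, hac]; simp
  have e2 : b * a * c + b * c * a = 0 := by
    have : b * (a * b + b * a + (a * c + c * a) + (b * c + c * b)) = 0 := by rw [hS, mul_zero]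
    calc b * a * c + b * c * a
        = b * (a * b + b * a + (a * c + c * a) + (b * c + c * b))
          - b * a * b - (b * b) * a - (b * b) * c - b * c * b := by noncomm_ring
      _ = 0 := by rw [this, hba, hb, hbc]; simp
  have e3 : a * b * c + b * a * c = 0 := by
    have : (a * b + b * a + (a * c + c * a) + (b * c + c * b)) * c = 0 := by rw [hS, zero_mul]
    calc a * b * c + b * a * c
        = (a * b + b * a + (a * c + c * a) + (b * c + c * b)) * c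
          - a * (c * c) - c * a * c - b * (c * c) - c * b * c := by noncomm_ring
      _ = 0 := by rw [this, hc, hca, hcb]; simp
  have hxq : (a + b + c) * q = a * b * c + (b * c * a - b * c * a) + c * a * b + (b * a * c) := by
    rw [hq]
    calc (a + b + c) * (a * b + a * c + b * c)
        = a * b * c + (b * c * a - b * c * a) + c * a * b + b * a * c + (a * a) * b + (a * a) * c
          + b * a * b + (b * b) * c + c * a * c + c * b * c := by noncomm_ring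
      _ = _ := by rw [ha, hba, hb, hca, hcb]; simp
  have e4 : a * c * b + c * a * b = 0 := by
    have : (a * b + b * a + (a * c + c * a) + (b * c + c * b)) * b = 0 := by rw [hS, zero_mul]
    calc a * c * b + c * a * b
        = (a * b + b * a + (a * c + c * a) + (b * c + c * b)) * b
          - a * (b * b) - b * a * b - b * c * b - c * (b * b) := by noncomm_ring
      _ = 0 := by rw [this, hb, hba, hbc]; simp
  have hxq' : (a + b + c) * q = a * b * c := by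
    rw [hxq, sub_self, add_zero, show c * a * b = a * b * c from
      (eq_neg_of_add_eq_zero_right e4).trans (by rw [eq_neg_of_add_eq_zero_right e1, neg_neg]),
      add_assoc, e3, add_zero]
  have e5 : a * b * c * a = 0 := by
    calc a * b * c * a = a * (b * a * c + b * c * a) - a * b * a * c := by noncomm_ring
      _ = 0 := by rw [e2, hab]; simp
  have hTq : a * b * c * q = 0 := by
    rw [hq]
    calc a * b * c * (a * b + a * c + b * c)
        = (a * b * c * a) * b + (a * b * c * a) * c + a * b * (c * b * c) := by noncomm_ring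
      _ = 0 := by rw [e5, hcb]; simp
  calc (1 + a) * (1 + b) * (1 + c) * (1 + r * (2 * q))
      = (1 + (a + b + c) + q + a * b * c) * (1 - q) := by
        rw [hr2, hq]; noncomm_ring
    _ = 1 + (a + b + c) + a * b * c - (a + b + c) * q - q * q - a * b * c * q := by noncomm_ring
    _ = 1 + (a + b + c) := by rw [hxq', hqq, hTq]; simp

variable {G : Type*} [Group G] (ρ : G →* E)

/-- `A` acts quadratically. -/
def IsQuad (A : Subgroup G) : Prop := ∀ a ∈ A, ∀ b ∈ A, (ρ a - 1) * (ρ b - 1) = 0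

variable {ρ}

theorem rho_mul {A : Subgroup G} (hA : IsQuad ρ A) {a b : G} (ha : a ∈ A) (hb : b ∈ A) :
    ρ (a * b) - 1 = (ρ a - 1) + (ρ b - 1) := by
  rw [map_mul]
  calc ρ a * ρ b - 1 = (ρ a - 1) + (ρ b - 1) + (ρ a - 1) * (ρ b - 1) := by noncomm_ring
    _ = _ := by rw [hA a ha b hb, add_zero]

theorem rho_inv {A : Subgroup G} (hA : IsQuad ρ A) {a : G} (ha : a ∈ A) :
    ρ a⁻¹ - 1 = -(ρ a - 1) := by
  have h := rho_mul hA ha (inv_mem ha)
  rw [mul_inv_cancel, map_one, sub_self] at h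
  exact (neg_eq_of_add_eq_zero_right h.symm).symm

theorem rho_pow {A : Subgroup G} (hA : IsQuad ρ A) {a : G} (ha : a ∈ A) (n : ℕ) :
    ρ (a ^ n) - 1 = n • (ρ a - 1) := by
  induction n with
  | zero => simp
  | succ n ih => rw [pow_succ, rho_mul hA (pow_mem ha n) ha, ih, succ_nsmul]

/-- The nilpotent parts. -/
def tr {A : Subgroup G} (hA : IsQuad ρ A) : AddSubgroup E where
  carrier := {x | ∃ a ∈ A, ρ a - 1 = x}
  zero_mem' := ⟨1, one_mem _, by rw [map_one, sub_self]⟩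
  add_mem' := by
    rintro _ _ ⟨a, ha, rfl⟩ ⟨b, hb, rfl⟩
    exact ⟨a * b, mul_mem ha hb, rho_mul hA ha hb⟩
  neg_mem' := by
    rintro _ ⟨a, ha, rfl⟩
    exact ⟨a⁻¹, inv_mem ha, rho_inv hA ha⟩

theorem card_tr {A : Subgroup G} (hA : IsQuad ρ A) (hρ : Function.Injective ρ) :
    Nat.card (tr hA) = Nat.card A := by
  refine (Nat.card_congr (Equiv.ofBijective (fun a : A => (⟨ρ a - 1, a, a.2, rfl⟩ : tr hA)) ⟨?_, ?_⟩)).symm
  · intro a a' h
    exact Subtype.ext (hρ (sub_left_injective (congrArg Subtype.val h)))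
  · rintro ⟨_, a, ha, rfl⟩
    exact ⟨⟨a, ha⟩, rfl⟩

theorem IsQuad.conj {A : Subgroup G} (hA : IsQuad ρ A) (g : G) :
    IsQuad ρ (A.map (MulAut.conj g).toMonoidHom) := by
  rintro _ ⟨a, ha, rfl⟩ _ ⟨b, hb, rfl⟩
  have e : ∀ u, ρ (g * u * g⁻¹) - 1 = ρ g * (ρ u - 1) * ρ g⁻¹ := fun u => by
    rw [map_mul, map_mul, mul_sub, mul_one, sub_mul, ← map_mul ρ g g⁻¹, mul_inv_cancel, map_one]
  simp only [MulEquiv.coe_toMonoidHom, MulAut.conj_apply, e]
  calc ρ g * (ρ a - 1) * ρ g⁻¹ * (ρ g * (ρ b - 1) * ρ g⁻¹)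
      = ρ g * ((ρ a - 1) * (ρ g⁻¹ * ρ g) * (ρ b - 1)) * ρ g⁻¹ := by noncomm_ring
    _ = 0 := by rw [← map_mul, inv_mul_cancel, map_one, mul_one, hA a ha b hb]; simp

/-- Two quadratic subgroups normalizing each other. -/
theorem mutual_normalize {A B : Subgroup G} (hA : IsQuad ρ A) (hB : IsQuad ρ B)
    (hAB : A ≤ Subgroup.normalizer (B : Set G)) (hBA : B ≤ Subgroup.normalizer (A : Set G))
    {a b : G} (ha : a ∈ A) (hb : b ∈ B) :
    ⁅a, b⁆ ∈ A ⊓ B ∧
      ρ ⁅a, b⁆ - 1 = (ρ a - 1) * (ρ b - 1) - (ρ b - 1) * (ρ a - 1) ∧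
      (ρ a - 1) * (ρ b - 1) * (ρ a - 1) = 0 ∧ (ρ b - 1) * (ρ a - 1) * (ρ b - 1) = 0 := by
  have hc : ⁅a, b⁆ ∈ A ⊓ B := by
    refine ⟨?_, ?_⟩
    · rw [commutatorElement_def, mul_assoc a b, mul_assoc a]
      exact A.mul_mem ha ((Subgroup.mem_normalizer_iff.1 (hBA hb) _).1 (A.inv_mem ha))
    · rw [commutatorElement_def]
      exact B.mul_mem ((Subgroup.mem_normalizer_iff.1 (hAB ha) _).1 hb) (B.inv_mem hb)
  set l := ρ a - 1 with hl
  set m := ρ b - 1 with hm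
  set z := ρ ⁅a, b⁆ - 1 with hz
  have h1 : ρ ⁅a, b⁆ * (ρ b * ρ a) = ρ a * ρ b := by
    rw [← map_mul, ← map_mul, ← map_mul, commutatorElement_def]
    congr 1
    group
  have hzm : z * m = 0 := hB _ hc.2 b hb
  have hzl : z * l = 0 := hA _ hc.1 a ha
  have hz' : z = l * m - m * l := by
    have e : ρ ⁅a, b⁆ * (ρ b * ρ a) - ρ a * ρ b =
        z + m * l - l * m + z * m + z * l + z * m * l := by
      rw [hz, hl, hm]; noncomm_ring
    rw [h1, sub_self, hzm, hzl, zero_mul, add_zero, add_zero, add_zero] at e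
    calc z = (z + m * l - l * m) + (l * m - m * l) := by abel
      _ = _ := by rw [← e, zero_add]
  refine ⟨hc, hz', ?_, ?_⟩
  · have : (l * m - m * l) * l = 0 := by rw [← hz', hzl]
    rw [sub_mul, mul_assoc m l l, hA a ha a ha, mul_zero, sub_zero] at this
    exact this
  · have : (l * m - m * l) * m = 0 := by rw [← hz', hzm]
    rw [sub_mul, mul_assoc l m m, hB b hb b hb, mul_zero, zero_sub, neg_eq_zero] at this
    exact this

variable (ρ) in
/-- The common annihilator. -/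
def ann (A : Subgroup G) : AddSubgroup E where
  carrier := {e | ∀ a ∈ A, (ρ a - 1) * e = 0}
  zero_mem' a _ := mul_zero _
  add_mem' {u v} hu hv a ha := by rw [mul_add, hu a ha, hv a ha, add_zero]
  neg_mem' {u} hu a ha := by rw [mul_neg, hu a ha, neg_zero]

variable [Finite E] [Finite G]

/-- The limit step: `A_i` is the conjugate of `A` by `b ^ i`. -/
theorem step (hρ : Function.Injective ρ) {p : ℕ} (hp : (p : E) = 0) (hodd : Odd p)
    {A : Subgroup G} (hA : IsQuad ρ A) {b : G} (hb : (ρ b - 1) * (ρ b - 1) = 0)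
    (hbA : b ∉ Subgroup.normalizer (A : Set G))
    (hnorm : ∀ i j : Fin 3, A.map (MulAut.conj (b ^ (i : ℕ))).toMonoidHom ≤
      Subgroup.normalizer ((A.map (MulAut.conj (b ^ (j : ℕ))).toMonoidHom : Subgroup G) : Set G))
    (Γ : ℕ → Subgroup G) (hΓn : ∀ k, (Γ k).Normal) (hΓ0 : Γ 0 = ⊤)
    (hΓm : ∀ k, Γ (k + 1) ≤ Γ k) (hΓs : ∀ k, ∀ x ∈ Γ k, ∀ g : G, ⁅g, x⁆ ∈ Γ (k + 1)) {N : ℕ} (hΓN : Γ N = ⊥) :
    ∃ A' : Subgroup G, IsQuad ρ A' ∧ Nat.card A ≤ Nat.card A' ∧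
      Nat.card (ann ρ A) ≤ Nat.card (ann ρ A') ∧
      (∀ k, Nat.card ↥(A ⊓ Γ k) ≤ Nat.card ↥(A' ⊓ Γ k)) ∧
      ∃ k ≤ N, Nat.card ↥(A ⊓ Γ k) < Nat.card ↥(A' ⊓ Γ k) := by
  classical
  set y := ρ b - 1 with hy
  obtain ⟨r, hr⟩ := hodd
  have hr' : (2 : E) * (r : E) + 1 = 0 := by rw [← hp, hr]; push_cast; rfl
  let c : ℕ → G → G := fun i a => b ^ i * a * (b ^ i)⁻¹
  set Ai : ℕ → Subgroup G := fun i => A.map (MulAut.conj (b ^ i)).toMonoidHom with hAi
  have hQi : ∀ i, IsQuad ρ (Ai i) := fun i => hA.conj _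
  have hci : ∀ i a, a ∈ A → c i a ∈ Ai i := fun i a ha => ⟨a, ha, rfl⟩
  have hcΓ : ∀ i k a, a ∈ Γ k → c i a ∈ Γ k := fun i k a ha => (hΓn k).conj_mem a ha _
  have hbinv : ρ b⁻¹ = 1 - y := by
    have h1 : ρ b * (1 - y) = 1 := by
      calc ρ b * (1 - y) = 1 - y * y := by rw [hy]; noncomm_ring
        _ = 1 := by rw [hb, sub_zero]
    calc ρ b⁻¹ = ρ b⁻¹ * (ρ b * (1 - y)) := by rw [h1, mul_one]
      _ = 1 - y := by rw [← mul_assoc, ← map_mul, inv_mul_cancel, map_one, one_mul]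
  have hl0 : ∀ a, ρ (c 0 a) - 1 = ρ a - 1 := fun a => by simp [c]
  have hl1 : ∀ a, ρ (c 1 a) - 1 =
      (ρ a - 1) + (y * (ρ a - 1) - (ρ a - 1) * y) - y * (ρ a - 1) * y := fun a => by
    simp only [c, pow_one, map_mul, hbinv]
    rw [show ρ b = 1 + y by rw [hy]; abel]
    calc (1 + y) * ρ a * (1 - y) - 1
        = (ρ a - 1) + (y * (ρ a - 1) - (ρ a - 1) * y) - y * (ρ a - 1) * y - y * y := by noncomm_ring
      _ = _ := by rw [hb, sub_zero]
  have hl2 : ∀ a, ρ (c 2 a) - 1 =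
      (ρ a - 1) + 2 * (y * (ρ a - 1) - (ρ a - 1) * y) - 4 * (y * (ρ a - 1) * y) := fun a => by
    simp only [c, pow_two, map_mul, mul_inv_rev, hbinv]
    rw [show ρ b = 1 + y by rw [hy]; abel]
    calc (1 + y) * (1 + y) * ρ a * ((1 - y) * (1 - y)) - 1
        = (1 + 2 * y + y * y) * ρ a * (1 - 2 * y + y * y) - 1 := by noncomm_ring
      _ = (1 + 2 * y) * ρ a * (1 - 2 * y) - 1 := by rw [hb]; simp
      _ = (ρ a - 1) + 2 * (y * (ρ a - 1) - (ρ a - 1) * y) - 4 * (y * (ρ a - 1) * y)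
          - 4 * (y * y) := by noncomm_ring
      _ = _ := by rw [hb]; simp
  -- realising a sum of elements of the three conjugates
  have real : ∀ a0 ∈ Ai 0, ∀ a1 ∈ Ai 1, ∀ a2 ∈ Ai 2,
      ((ρ a0 - 1) + (ρ a1 - 1) + (ρ a2 - 1)) * ((ρ a0 - 1) + (ρ a1 - 1) + (ρ a2 - 1)) = 0 →
      ∃ g, ρ g - 1 = (ρ a0 - 1) + (ρ a1 - 1) + (ρ a2 - 1) ∧
        ∀ k, a0 ∈ Γ k → a1 ∈ Γ k → a2 ∈ Γ k →
          g ∈ Γ k ∧ (a0 * a1 * a2 ∈ Γ (k + 1) → g ∈ Γ (k + 1)) := by
    intro a0 h0 a1 h1 a2 h2 hx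
    obtain ⟨m01, z01, u01, u10⟩ := mutual_normalize (hQi 0) (hQi 1) (hnorm 0 1) (hnorm 1 0) h0 h1
    obtain ⟨m02, z02, u02, u20⟩ := mutual_normalize (hQi 0) (hQi 2) (hnorm 0 2) (hnorm 2 0) h0 h2
    obtain ⟨m12, z12, u12, u21⟩ := mutual_normalize (hQi 1) (hQi 2) (hnorm 1 2) (hnorm 2 1) h1 h2
    set l0 := ρ a0 - 1
    set l1 := ρ a1 - 1
    set l2 := ρ a2 - 1
    set h := ⁅a0, a1⁆ * ⁅a0, a2⁆ * ⁅a1, a2⁆ with hh
    set w := l0 * l1 - l1 * l0 + (l0 * l2 - l2 * l0) + (l1 * l2 - l2 * l1) with hw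
    set s01 := ρ ⁅a0, a1⁆ - 1 with hs01
    set s02 := ρ ⁅a0, a2⁆ - 1 with hs02
    set s12 := ρ ⁅a1, a2⁆ - 1 with hs12
    have q1 : s01 * s02 = 0 := hQi 0 _ m01.1 _ m02.1
    have q2 : s01 * s12 = 0 := hQi 1 _ m01.2 _ m12.1
    have q3 : s02 * s12 = 0 := hQi 2 _ m02.2 _ m12.2
    have q1' : s02 * s01 = 0 := hQi 0 _ m02.1 _ m01.1
    have q2' : s12 * s01 = 0 := hQi 1 _ m12.1 _ m01.2
    have q3' : s12 * s02 = 0 := hQi 2 _ m12.2 _ m02.2
    have hhw : ρ h = 1 + w := by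
      rw [hh, map_mul, map_mul, show ρ ⁅a0, a1⁆ = 1 + s01 by rw [hs01]; abel,
        show ρ ⁅a0, a2⁆ = 1 + s02 by rw [hs02]; abel, show ρ ⁅a1, a2⁆ = 1 + s12 by rw [hs12]; abel]
      calc (1 + s01) * (1 + s02) * (1 + s12)
          = 1 + (s01 + s02 + s12) + s01 * s02 + s01 * s12 + s02 * s12 + s01 * s02 * s12 := by
            noncomm_ring
        _ = 1 + w := by rw [q1, q2, q3, z01, z02, z12, hw]; simp
    have hww : w * w = 0 := by
      rw [hw, ← z01, ← z02, ← z12]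
      calc (s01 + s02 + s12) * (s01 + s02 + s12)
          = s01 * s01 + s02 * s02 + s12 * s12 + s01 * s02 + s01 * s12 + s02 * s12
            + s02 * s01 + s12 * s01 + s12 * s02 := by noncomm_ring
        _ = 0 := by
            rw [hQi 0 _ m01.1 _ m01.1, hQi 0 _ m02.1 _ m02.1, hQi 1 _ m12.1 _ m12.1, q1, q2, q3,
              q1', q2', q3']
            simp
    have hpw : ∀ n : ℕ, ρ (h ^ n) = 1 + (n : E) * w := by
      intro n
      induction n with
      | zero => simp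
      | succ n ih =>
        rw [pow_succ, map_mul, ih, hhw]
        calc (1 + (n : E) * w) * (1 + w) = 1 + ((n : E) + 1) * w + (n : E) * (w * w) := by
              noncomm_ring
          _ = _ := by rw [hww]; simp
    refine ⟨a0 * a1 * a2 * h ^ r, ?_, fun k k0 k1 k2 => ?_⟩
    · rw [map_mul, map_mul, map_mul, hpw, show ρ a0 = 1 + l0 by simp [l0],
        show ρ a1 = 1 + l1 by simp [l1], show ρ a2 = 1 + l2 by simp [l2],
        triple_product (hQi 0 _ h0 _ h0) (hQi 1 _ h1 _ h1) (hQi 2 _ h2 _ h2) u01 u10 u02 u20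
          u12 u21 hx hww (r : E) hr' (fun e => (Nat.cast_commute r e).eq)]
      simp [l0, l1, l2]
    · have hhk : h ^ r ∈ Γ (k + 1) :=
        pow_mem (mul_mem (mul_mem (hΓs k a1 k1 a0) (hΓs k a2 k2 a0)) (hΓs k a2 k2 a1)) r
      exact ⟨mul_mem (mul_mem (mul_mem k0 k1) k2) (hΓm k hhk), fun hp' => mul_mem hp' hhk⟩
  have hQk : ∀ i k, IsQuad ρ (Ai i ⊓ Γ k) := fun i k a ha a' ha' => hQi i a ha.1 a' ha'.1
  have hAk : ∀ k, IsQuad ρ (A ⊓ Γ k) := fun k a ha a' ha' => hA a ha.1 a' ha'.1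
  -- limits are realised
  have hreal : ∀ k, ∀ x ∈ lead y (tr (hAk k)), ∃ g ∈ Γ k, ρ g - 1 = x := by
    intro k x hx
    have hxx : x * x = 0 := mul_eq_zero_of_mem_lead hb (fun u hu v hv => by
      obtain ⟨a, ha, rfl⟩ := hu
      obtain ⟨a', ha', rfl⟩ := hv
      exact hA a ha.1 a' ha'.1) hx hx
    set M := tr (hQk 0 k) ⊔ tr (hQk 1 k) ⊔ tr (hQk 2 k) with hM
    have hmem : ∀ a ∈ A ⊓ Γ k, (ρ a - 1) ∈ M ∧ (y * (ρ a - 1) - (ρ a - 1) * y) ∈ M ∧
        y * (ρ a - 1) * y ∈ M := by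
      intro a ha
      set l := ρ a - 1 with hl
      set d := y * l - l * y with hd
      set q := y * l * y with hq
      have m0 : ρ (c 0 a) - 1 ∈ M := AddSubgroup.mem_sup_left
        (AddSubgroup.mem_sup_left ⟨c 0 a, ⟨hci 0 a ha.1, hcΓ 0 k a ha.2⟩, rfl⟩)
      have m1 : ρ (c 1 a) - 1 ∈ M := AddSubgroup.mem_sup_left
        (AddSubgroup.mem_sup_right ⟨c 1 a, ⟨hci 1 a ha.1, hcΓ 1 k a ha.2⟩, rfl⟩)
      have m2 : ρ (c 2 a) - 1 ∈ M :=
        AddSubgroup.mem_sup_right ⟨c 2 a, ⟨hci 2 a ha.1, hcΓ 2 k a ha.2⟩, rfl⟩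
      rw [hl0] at m0; rw [hl1] at m1; rw [hl2] at m2
      have h2 : ∀ e : E, (2 * r + 2) • e = e := fun e => by
        rw [nsmul_eq_mul]; push_cast
        calc (2 * (r : E) + 2) * e = (2 * (r : E) + 1) * e + e := by noncomm_ring
          _ = e := by rw [hr', zero_mul, zero_add]
      have hq2 : (r + 1) • (-(l + 2 * d - 4 * q) + 2 • (l + d - q) - l) = q := by
        conv_rhs => rw [← h2 q, show (2 * r + 2) • q = (r + 1) • (q + q) by
          rw [← two_nsmul, ← mul_nsmul', show (r + 1) * 2 = 2 * r + 2 by ring]]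
        congr 1
        noncomm_ring
      have hd2 : (r + 1) • (-(3 • l) + 4 • (l + d - q) - (l + 2 * d - 4 * q)) = d := by
        conv_rhs => rw [← h2 d, show (2 * r + 2) • d = (r + 1) • (d + d) by
          rw [← two_nsmul, ← mul_nsmul', show (r + 1) * 2 = 2 * r + 2 by ring]]
        congr 1
        noncomm_ring
      refine ⟨m0, ?_, ?_⟩
      · rw [← hd2]
        exact M.nsmul_mem (sub_mem (add_mem (neg_mem (M.nsmul_mem m0 3)) (M.nsmul_mem m1 4)) m2) _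
      · rw [← hq2]
        exact M.nsmul_mem (sub_mem (add_mem (neg_mem m2) (M.nsmul_mem m1 2)) m0) _
    have hle : lead y (tr (hAk k)) ≤ M := lead_le
      (by rintro _ ⟨a, ha, rfl⟩; exact (hmem a ha).1)
      (by rintro _ ⟨a, ha, rfl⟩; exact (hmem a ha).2.1)
      (by rintro _ ⟨a, ha, rfl⟩; exact (hmem a ha).2.2)
    have hxM := hle hx
    rw [hM, AddSubgroup.mem_sup] at hxM
    obtain ⟨x01, hx01, _, ⟨a2, ha2, rfl⟩, rfl⟩ := hxM
    rw [AddSubgroup.mem_sup] at hx01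
    obtain ⟨_, ⟨a0, ha0, rfl⟩, _, ⟨a1, ha1, rfl⟩, rfl⟩ := hx01
    obtain ⟨g, hg, hgΓ⟩ := real a0 ha0.1 a1 ha1.1 a2 ha2.1 hxx
    exact ⟨g, (hgΓ k ha0.2 ha1.2 ha2.2).1, hg⟩
  set L := tr hA with hL
  have hLk : ∀ k, tr (hAk k) ≤ L := fun k => by
    rintro _ ⟨a, ha, rfl⟩; exact ⟨a, ha.1, rfl⟩
  have hL0 : L ≤ tr (hAk 0) := by
    rintro _ ⟨a, ha, rfl⟩; exact ⟨a, ⟨ha, by rw [hΓ0]; trivial⟩, rfl⟩
  have hLL : ∀ u ∈ lead y L, ∀ v ∈ lead y L, u * v = 0 := fun u hu v hv =>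
    mul_eq_zero_of_mem_lead hb (by
      rintro _ ⟨a, ha, rfl⟩ _ ⟨a', ha', rfl⟩; exact hA a ha a' ha') hu hv
  let A' : Subgroup G :=
    { carrier := {g | ρ g - 1 ∈ lead y L}
      one_mem' := by simp
      mul_mem' := fun {g h} hg hh => by
        show ρ (g * h) - 1 ∈ lead y L
        rw [show ρ (g * h) - 1 = (ρ g - 1) + (ρ h - 1) + (ρ g - 1) * (ρ h - 1) by
          rw [map_mul]; noncomm_ring, hLL _ hg _ hh, add_zero]
        exact add_mem hg hh
      inv_mem' := fun {g} hg => by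
        show ρ g⁻¹ - 1 ∈ lead y L
        have h0 := hLL _ hg _ hg
        have h1 : ρ g * (1 - (ρ g - 1)) = 1 := by
          calc ρ g * (1 - (ρ g - 1)) = 1 - (ρ g - 1) * (ρ g - 1) := by noncomm_ring
            _ = 1 := by rw [h0, sub_zero]
        have h2 : ρ g⁻¹ = 1 - (ρ g - 1) := by
          calc ρ g⁻¹ = ρ g⁻¹ * (ρ g * (1 - (ρ g - 1))) := by rw [h1, mul_one]
            _ = 1 - (ρ g - 1) := by rw [← mul_assoc, ← map_mul, inv_mul_cancel, map_one, one_mul]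
        rw [h2, show (1 : E) - (ρ g - 1) - 1 = -(ρ g - 1) by noncomm_ring]
        exact neg_mem hg }
  have hA'q : IsQuad ρ A' := fun g hg g' hg' => hLL _ hg _ hg'
  have hcardk : ∀ k, Nat.card (lead y (tr (hAk k))) ≤ Nat.card ↥(A' ⊓ Γ k) := by
    intro k
    choose g hgΓ hg using hreal k
    refine Nat.card_le_card_of_injective (fun x => (⟨g x.1 x.2, ?_, hgΓ x.1 x.2⟩ : ↥(A' ⊓ Γ k))) ?_
    · show ρ (g x.1 x.2) - 1 ∈ lead y L
      rw [hg]; exact lead_mono (hLk k) x.2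
    · intro u v h
      have h' := congrArg (fun z : ↥(A' ⊓ Γ k) => ρ (z : G) - 1) h
      simp only [hg] at h'
      exact Subtype.ext h'
  have hall : ∀ k, Nat.card ↥(A ⊓ Γ k) ≤ Nat.card ↥(A' ⊓ Γ k) := fun k => by
    rw [← card_tr (hAk k) hρ]
    exact (card_le_card_lead hb _).trans (hcardk k)
  refine ⟨A', hA'q, ?_, ?_, hall, ?_⟩
  · have := hall 0
    rwa [hΓ0, inf_top_eq, inf_top_eq] at this
  · refine (card_le_card_lead hb _).trans (Nat.card_le_card_of_injective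
      (fun e => (⟨e.1, fun g hg => ?_⟩ : ann ρ A')) fun u v h => Subtype.ext (congrArg Subtype.val h :))
    exact mul_eq_zero_of_mem_lead hb (fun u hu v hv => by
      obtain ⟨a, ha, rfl⟩ := hu; exact hv a ha) hg e.2
  -- a strict increase
  let Inv : ℕ → Prop := fun k => ∀ x ∈ tr (hAk k),
    y * x - x * y ∈ tr (hAk k) ∧ y * x * y ∈ tr (hAk k)
  have hInvN : Inv N := by
    rintro x ⟨a, ha, rfl⟩
    have ha' : a ∈ Γ N := ha.2
    rw [hΓN, Subgroup.mem_bot] at ha'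
    subst ha'
    simp
  have hInv0 : ¬ Inv 0 := by
    intro h
    apply hbA
    refine Subgroup.mem_normalizer_fintype fun a ha => ?_
    have hm : ρ a - 1 ∈ tr (hAk 0) := hL0 ⟨a, ha, rfl⟩
    obtain ⟨h1, h2⟩ := h _ hm
    have h3 : ρ (c 1 a) - 1 ∈ tr (hAk 0) := by
      rw [hl1]; exact sub_mem (add_mem hm h1) h2
    obtain ⟨a', ha', he⟩ := h3
    have h4 : a' = c 1 a := hρ (sub_left_injective he)
    rw [h4] at ha'
    simpa [c] using ha'.1
  obtain ⟨k, hkN, hk, hk1⟩ : ∃ k, k < N ∧ ¬ Inv k ∧ Inv (k + 1) := by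
    have hex : ∃ k, Inv k := ⟨N, hInvN⟩
    have hspec := Nat.find_spec hex
    rcases hf : Nat.find hex with _ | k
    · rw [hf] at hspec; exact absurd hspec hInv0
    · rw [hf] at hspec
      have hle : Nat.find hex ≤ N := Nat.find_le hInvN
      exact ⟨k, by omega, Nat.find_min hex (by omega), hspec⟩
  set L' := tr (hAk (k + 1)) with hL'
  have hinv1 : ∀ x ∈ L', y * x - x * y ∈ L' := fun x hx => (hk1 x hx).1
  have hinv2 : ∀ x ∈ L', y * x * y ∈ L' := fun x hx => (hk1 x hx).2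
  refine ⟨k + 1, by omega, ?_⟩
  suffices hnew : ∃ x ∈ lead y L, x ∉ L' ∧ ∃ g ∈ Γ (k + 1), ρ g - 1 = x by
    obtain ⟨x, hx, hxL', g, hgΓ, hg⟩ := hnew
    rw [← card_tr (hAk (k + 1)) hρ]
    have hL'' : ∀ z ∈ L', ∃ a, a ∈ A' ⊓ Γ (k + 1) ∧ ρ a - 1 = z := by
      rintro z ⟨a, ha, rfl⟩
      refine ⟨a, ⟨?_, ha.2⟩, rfl⟩
      exact lead_mono (hLk (k + 1)) (le_lead_of_invariant hb hinv1 hinv2 ⟨a, ha, rfl⟩)
    choose f hf hfe using hL''
    have hcard : Nat.card (Option L') ≤ Nat.card ↥(A' ⊓ Γ (k + 1)) := by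
      refine Nat.card_le_card_of_injective (fun o => o.elim
        (⟨g, by show ρ g - 1 ∈ lead y L; rw [hg]; exact hx, hgΓ⟩ : ↥(A' ⊓ Γ (k + 1)))
        fun z => ⟨f z.1 z.2, hf z.1 z.2⟩) ?_
      intro u v h
      have h' := congrArg (fun z : ↥(A' ⊓ Γ (k + 1)) => ρ (z : G) - 1) h
      rcases u with _ | ⟨u, hu⟩ <;> rcases v with _ | ⟨v, hv⟩ <;>
        simp only [Option.elim, hg, hfe] at h'
      · rfl
      · exact absurd (h' ▸ hv) hxL'
      · exact absurd (h'.symm ▸ hu) hxL'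
      · subst h'; rfl
    rw [Finite.card_option] at hcard
    exact hcard
  -- congruences modulo `Γ (k + 1)`
  haveI := hΓn (k + 1)
  set π := QuotientGroup.mk' (Γ (k + 1)) with hπ
  have hπc : ∀ i u, u ∈ Γ k → π (c i u) = π u := fun i u hu => by
    rw [show c i u = ⁅b ^ i, u⁆ * u by simp [c, commutatorElement_def], map_mul, hπ,
      QuotientGroup.mk'_apply, (QuotientGroup.eq_one_iff _).2 (hΓs k u hu _), one_mul]
  have hpow1 : ∀ a ∈ A, ∀ n, a ^ (p * n) = 1 := fun a ha n => hρ (by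
    rw [map_one]
    refine sub_eq_zero.1 ?_
    rw [rho_pow hA ha, nsmul_eq_mul, Nat.cast_mul, hp, zero_mul, zero_mul])
  have hlin : ∀ i a, a ∈ A → ∀ n, ρ (c i (a ^ n)) - 1 = n • (ρ (c i a) - 1) := fun i a ha n => by
    rw [← rho_pow (hQi i) (hci i a ha) n, show c i (a ^ n) = c i a ^ n from (conj_pow).symm]
  have combo : ∀ a ∈ A ⊓ Γ k, ∀ n0 n1 n2 : ℕ, p ∣ n0 + n1 + n2 → ∀ x : E,
      n0 • (ρ (c 0 a) - 1) + n1 • (ρ (c 1 a) - 1) + n2 • (ρ (c 2 a) - 1) = x → x * x = 0 →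
      ∃ g ∈ Γ (k + 1), ρ g - 1 = x := by
    intro a ha n0 n1 n2 ⟨m, hm⟩ x hx hxx
    rw [← hlin 0 a ha.1, ← hlin 1 a ha.1, ← hlin 2 a ha.1] at hx
    subst hx
    obtain ⟨g, hg, hgΓ⟩ := real _ (hci 0 _ (pow_mem ha.1 n0)) _ (hci 1 _ (pow_mem ha.1 n1))
      _ (hci 2 _ (pow_mem ha.1 n2)) hxx
    refine ⟨g, (hgΓ k (hcΓ _ _ _ (pow_mem ha.2 _)) (hcΓ _ _ _ (pow_mem ha.2 _))
      (hcΓ _ _ _ (pow_mem ha.2 _))).2 ((QuotientGroup.eq_one_iff _).1 ?_), hg⟩
    show π _ = 1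
    rw [map_mul, map_mul, hπc _ _ (pow_mem ha.2 _), hπc _ _ (pow_mem ha.2 _),
      hπc _ _ (pow_mem ha.2 _), ← map_mul, ← map_mul, ← pow_add, ← pow_add, hm, hpow1 a ha.1,
      map_one]
  have hp1 : ((p - 1 : ℕ) : E) = -1 := by
    rw [Nat.cast_sub (by omega), hp, Nat.cast_one, zero_sub]
  have h22 : ((r : E) + 1) * 2 = 1 := by
    calc ((r : E) + 1) * 2 = (2 * (r : E) + 1) + 1 := by noncomm_ring
      _ = 1 := by rw [hr', zero_add]
  by_cases hα : ∃ x ∈ tr (hAk k), y * x * y ∉ L'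
  · obtain ⟨_, ⟨a, ha, rfl⟩, hnot⟩ := hα
    set l := ρ a - 1 with hl
    have hxk : -(y * l * y) ∈ lead y (tr (hAk k)) := top_mem_lead hb ⟨a, ha, rfl⟩
    have hx := lead_mono (hLk k) hxk
    refine ⟨_, hx, fun h => hnot (by simpa using neg_mem h), ?_⟩
    refine combo a ha (r + 1) ((r + 1) * ((p - 1) * 2)) (r + 1) ⟨(r + 1) * 2, ?_⟩ _ ?_ (hLL _ hx _ hx)
    · obtain ⟨q, rfl⟩ : ∃ q, p = q + 1 := ⟨p - 1, by omega⟩
      simp only [Nat.add_sub_cancel]; ring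
    · rw [hl0, hl1, hl2, ← hl, nsmul_eq_mul, nsmul_eq_mul, nsmul_eq_mul]
      push_cast
      rw [hp1]
      calc _ = ((r : E) + 1) * 2 * (-(y * l * y)) := by noncomm_ring
        _ = _ := by rw [h22, one_mul]
  push Not at hα
  obtain ⟨_, ⟨a, ha, rfl⟩, hnot⟩ : ∃ x ∈ tr (hAk k), y * x - x * y ∉ L' := by
    by_contra hno
    push Not at hno
    have hsub : L' ≤ tr (hAk k) := by
      rintro _ ⟨a, ha, rfl⟩; exact ⟨a, ⟨ha.1, hΓm k ha.2⟩, rfl⟩
    exact hk fun x hx => ⟨hsub (hno x hx), hsub (hα x hx)⟩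
  set l := ρ a - 1 with hl
  have hq := hα l ⟨a, ha, rfl⟩
  have hsub : L' ≤ tr (hAk k) := by
    rintro _ ⟨a, ha, rfl⟩; exact ⟨a, ⟨ha.1, hΓm k ha.2⟩, rfl⟩
  have hxk : y * l - l * y ∈ lead y (tr (hAk k)) :=
    deriv_mem_lead hb ⟨a, ha, rfl⟩ (hsub hq) (hsub (hinv1 _ hq)) (hsub (hinv2 _ hq))
  have hx := lead_mono (hLk k) hxk
  refine ⟨_, hx, hnot, ?_⟩
  refine combo a ha ((r + 1) * ((p - 1) * 3)) ((r + 1) * 4) ((r + 1) * (p - 1))
    ⟨(r + 1) * 4, ?_⟩ _ ?_ (hLL _ hx _ hx)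
  · obtain ⟨q, rfl⟩ : ∃ q, p = q + 1 := ⟨p - 1, by omega⟩
    simp only [Nat.add_sub_cancel]; ring
  · rw [hl0, hl1, hl2, ← hl, nsmul_eq_mul, nsmul_eq_mul, nsmul_eq_mul]
    push_cast
    rw [hp1]
    calc _ = ((r : E) + 1) * 2 * (y * l - l * y) := by noncomm_ring
      _ = _ := by rw [h22, one_mul]

end CfsgLib.QuadLimit
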